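import Cfsg.Agent.H81.Fix4.Basic
import Cfsg.Agent.S3224

/-!
Involutions fixing at most three points: strongly embedded, or dihedral or semidihedral Sylow 2-subgroups.
-/

set_option autoImplicit false
set_option linter.unusedSectionVars false

namespace Cfsg.Agent.H81.Fix4

open MulAction Pointwise Subgroup

variable {G Ω : Type*} [Group G] [Finite G] [MulAction G Ω] [Finite Ω]

theorem small_involutions [IsSimpleGroup G] (hna : ¬ IsMulCommutative G) [FaithfulSMul G Ω]
    (htr : IsPretransitive G Ω) (f : ℕ) (hf : ∀ g : G, orderOf g = 2 → (fixedBy Ω g).ncard ≤ f)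
    (hf' : ∃ g : G, orderOf g = 2 ∧ (fixedBy Ω g).ncard = f) (hf1 : 1 ≤ f) (hf3 : f ≤ 3) (S : Sylow 2 G) :
    (∃ H : Subgroup G, Cfsg.IsStronglyEmbedded H) ∨
      ((∃ n : ℕ, Nonempty ((S : Subgroup G) ≃* DihedralGroup n)) ∨
        Cfsg.IsQuasiDihedral (S : Subgroup G)) := by
  haveI : Fact (Nat.Prime 2) := ⟨Nat.prime_two⟩
  obtain ⟨g0, hg0, hg0f⟩ := hf'
  have hsq : ∀ g : G, orderOf g = 2 → g * g = 1 := fun g hg => by
    rw [← pow_two, ← hg, pow_orderOf_eq_one]
  have hne : ∀ g : G, orderOf g = 2 → g ≠ 1 := fun g hg h => by rw [h, orderOf_one] at hg; omega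
  have hall : ∀ g : G, orderOf g = 2 → (fixedBy Ω g).ncard = f := by
    intro g hg
    have h1 := mod_four (Ω := Ω) hna (hsq g hg)
    have h2 := mod_four (Ω := Ω) hna (hsq g0 hg0)
    have := hf g hg
    omega
  have hdvd : 2 ∣ Nat.card G := hg0 ▸ orderOf_dvd_natCard g0
  -- a central involution of `S`
  haveI : Nontrivial (S : Subgroup G) :=
    (Subgroup.nontrivial_iff_ne_bot _).2 fun h => by
      have := S.dvd_card_of_dvd_card hdvd
      rw [h, card_bot] at this
      omega
  haveI := S.2.center_nontrivial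
  obtain ⟨zc, hzc⟩ := exists_prime_orderOf_dvd_card' (G := center (S : Subgroup G)) 2 (by
    obtain ⟨k, hk⟩ := IsPGroup.iff_card.1 (S.2.to_subgroup (center (S : Subgroup G)))
    have := Finite.one_lt_card (α := center (S : Subgroup G))
    rw [hk] at this ⊢
    exact dvd_pow_self 2 (fun h => by rw [h, pow_zero] at this; omega))
  obtain ⟨z, hz⟩ : ∃ z : G, z = ((zc : (S : Subgroup G)) : G) := ⟨_, rfl⟩
  have hzS : z ∈ (S : Subgroup G) := hz ▸ (zc : (S : Subgroup G)).2
  have hzo : orderOf z = 2 := by rw [hz, orderOf_coe, orderOf_coe, hzc]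
  have hzcomm : ∀ s ∈ (S : Subgroup G), s * z = z * s := fun s hs => by
    rw [hz]; exact congrArg Subtype.val (mem_center_iff.1 zc.2 ⟨s, hs⟩)
  obtain ⟨F, hF⟩ : ∃ F, F = fixedBy Ω z := ⟨_, rfl⟩
  have hFf : F.ncard = f := hF ▸ hall z hzo
  have hSF : (S : Subgroup G) ≤ stabilizer G F := fun s hs => by
    rw [mem_stabilizer_iff, hF, smul_fixedBy_of_comm (hzcomm s hs)]
  by_cases hu : ∀ x ∈ (S : Subgroup G), orderOf x = 2 → fixedBy Ω x = F
  · exact Or.inl ⟨_, isStronglyEmbedded_of_uniform hna htr S F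
      (Set.nonempty_of_ncard_ne_zero (by omega)) (by omega) hSF hu hdvd⟩
  push Not at hu
  obtain ⟨u, huS, huo, huF⟩ := hu
  right
  obtain ⟨F', hF'⟩ : ∃ F', F' = fixedBy Ω u := ⟨_, rfl⟩
  rw [← hF'] at huF
  have hF'f : F'.ncard = f := hF' ▸ hall u huo
  set C : Subgroup G := (S : Subgroup G) ⊓ centralizer ({u} : Set G) with hC
  have hCu : ∀ c ∈ C, c * u = u * c := fun c hc => mem_centralizer_singleton_iff.1 hc.2
  have hC1 : C ≤ stabilizer G F := inf_le_left.trans hSF
  have hC2 : C ≤ stabilizer G F' := fun c hc => by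
    rw [mem_stabilizer_iff, hF', smul_fixedBy_of_comm (hCu c hc)]
  have hCp : IsPGroup 2 C := S.2.to_le inf_le_left
  have hCD : C ≤ stabilizer G (F' \ F) := fun c hc => by
    rw [mem_stabilizer_iff, Set.smul_set_sdiff, show c • F' = F' from hC2 hc, show c • F = F from hC1 hc]
  have hzC : z ∈ C := ⟨hzS, mem_centralizer_singleton_iff.2 (hzcomm u huS).symm⟩
  have huC : u ∈ C := ⟨huS, mem_centralizer_singleton_iff.2 rfl⟩
  -- `z` moves every point of `F' \ F`
  have hD1 : (F' \ F).Nonempty := by
    by_contra h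
    rw [Set.not_nonempty_iff_eq_empty, Set.sdiff_eq_empty] at h
    exact huF (Set.eq_of_subset_of_ncard_le h (by omega) (Set.toFinite _))
  have hzp : IsPGroup 2 (zpowers z) := isPGroup_zpowers hCp hzC
  have hD2 : (F' \ F).ncard = 2 := by
    have h1 := ncard_modEq hzp (F' \ F) (zpowers_le.2 (hCD hzC))
    have h0 : {x ∈ F' \ F | ∀ g ∈ zpowers z, g • x = x} = ∅ :=
      Set.eq_empty_of_forall_notMem fun x hx => hx.1.2 (hF ▸ hx.2 z (mem_zpowers z))
    rw [h0, Set.ncard_empty, Nat.ModEq] at h1
    have h2 := Set.ncard_le_ncard (Set.sdiff_subset (s := F') (t := F)) (Set.toFinite _)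
    have h3 := (Set.ncard_pos (Set.toFinite _)).2 hD1
    omega
  have hI : (F' ∩ F).ncard + 2 = f := by
    rw [← hD2, Set.ncard_inter_add_ncard_sdiff_eq_ncard F' F (Set.toFinite _), hF'f]
  have hE : (F \ F').ncard = 2 := by
    have := Set.ncard_inter_add_ncard_sdiff_eq_ncard F F' (Set.toFinite _)
    rw [Set.inter_comm] at this
    omega
  have hCI : C ≤ stabilizer G (F' ∩ F) := fun c hc => by
    rw [mem_stabilizer_iff, Set.smul_set_inter, show c • F' = F' from hC2 hc, show c • F = F from hC1 hc]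
  have hCE : C ≤ stabilizer G (F \ F') := fun c hc => by
    rw [mem_stabilizer_iff, Set.smul_set_sdiff, show c • F' = F' from hC2 hc, show c • F = F from hC1 hc]
  -- the kernel on `F' \ F`
  have hC4 : Nat.card C ≤ 4 := by
    obtain ⟨i, hi, hcard⟩ := exists_image_pow hCp (F' \ F) hCD
    rw [hD2] at hi
    have hi2 : 2 ^ i ≤ 2 := Nat.le_of_dvd (by norm_num) hi
    have hX : Nat.card (C ⊓ fixingSubgroup G (F' \ F) : Subgroup G) ≤ 2 := by
      obtain ⟨b, hb⟩ : (F \ F').Nonempty := Set.nonempty_of_ncard_ne_zero (by omega)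
      rw [← hE]
      refine card_le_of_free _ _ (fun x hx c hc => ?_) hb fun x hx hxb => ?_
      · rw [← show x • (F \ F') = F \ F' from hCE hx.1]
        exact Set.smul_mem_smul_set hc
      · by_contra hx1
        -- a point set of size `f + 1` fixed by `x`
        have hfix : ∀ y ∈ insert b F', x • y = y := by
          rintro y (rfl | hy)
          · exact hxb
          by_cases hyF : y ∈ F
          · have h1 : (F' ∩ F).ncard ≤ 1 := by omega
            have h2 : x • y ∈ F' ∩ F := by
              rw [← show x • (F' ∩ F) = F' ∩ F from hCI hx.1]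
              exact Set.smul_mem_smul_set ⟨hy, hyF⟩
            exact (Set.ncard_le_one (Set.toFinite _)).1 h1 _ h2 _ ⟨hy, hyF⟩
          · exact mem_fixing.1 hx.2 y ⟨hy, hyF⟩
        obtain ⟨j, hj⟩ := exists_prime_orderOf_dvd_card' (G := zpowers x) 2 (by
          obtain ⟨k, hk⟩ := IsPGroup.iff_card.1 (isPGroup_zpowers hCp hx.1)
          rw [hk]
          refine dvd_pow_self 2 fun h => hx1 ?_
          rw [h, pow_zero, Nat.card_zpowers, orderOf_eq_one_iff] at hk
          exact hk)
        have hj2 : orderOf (j : G) = 2 := by rw [orderOf_coe, hj]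
        have hjfix : ∀ y ∈ insert b F', (j : G) • y = y := fun y hy =>
          (zpowers_le.2 (show x ∈ stabilizer G y from hfix y hy)) j.2
        have h1 := Set.ncard_le_ncard (t := fixedBy Ω (j : G)) hjfix (Set.toFinite _)
        rw [Set.ncard_insert_of_notMem hb.2 (Set.toFinite _), hall _ hj2] at h1
        omega
    rw [hcard]
    exact le_trans (Nat.mul_le_mul hX hi2) le_rfl
  -- inside `S`
  have hzu : z ≠ u := fun h => huF (by rw [hF', hF, h])
  have hcard : Nat.card (centralizer ({⟨u, huS⟩} : Set (S : Subgroup G))) = 4 := by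
    have he : Nat.card (centralizer ({⟨u, huS⟩} : Set (S : Subgroup G))) = Nat.card C := Nat.card_congr
      { toFun := fun x => ⟨((x : (S : Subgroup G)) : G), (x : (S : Subgroup G)).2,
          mem_centralizer_singleton_iff.2 (congrArg Subtype.val (mem_centralizer_singleton_iff.1 x.2))⟩
        invFun := fun c => ⟨⟨(c : G), c.2.1⟩, mem_centralizer_singleton_iff.2 (Subtype.ext (hCu c c.2))⟩
        left_inv := fun _ => rfl
        right_inv := fun _ => rfl }
    rw [he]
    obtain ⟨k, hk⟩ := IsPGroup.iff_card.1 hCp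
    have h3 : ({1, u, z} : Set G).ncard ≤ Nat.card C := by
      rw [← Nat.card_coe_set_eq]
      exact Nat.card_mono (Set.toFinite _) (by
        rintro x (rfl | rfl | rfl)
        · exact one_mem C
        · exact huC
        · exact hzC)
    have h3' : ({1, u, z} : Set G).ncard = 3 := by
      rw [Set.ncard_eq_three]
      exact ⟨1, u, z, (hne u huo).symm, (hne z hzo).symm, hzu.symm, rfl⟩
    rw [hk] at hC4 h3 ⊢
    rcases k with _ | _ | _ | k
    · omega
    · omega
    · rfl
    · rw [pow_succ, pow_succ, pow_succ] at hC4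
      have := Nat.one_le_two_pow (n := k)
      omega
  rcases Cfsg.Agent.S3224.result S.2 ⟨u, huS⟩ (by rw [← orderOf_coe]; exact huo) hcard with h | h | h
  · exact Or.inl h
  · exact Or.inr h
  · refine Or.inl ⟨2, ?_⟩
    haveI : IsKleinFour (S : Subgroup G) := by
      refine ⟨h, ?_⟩
      have hall2 : ∀ x : (S : Subgroup G), x ^ 2 = 1 := by
        intro x
        obtain ⟨zS, hzS'⟩ : ∃ a : (S : Subgroup G), a = ⟨z, hzS⟩ := ⟨_, rfl⟩
        obtain ⟨uS, huS'⟩ : ∃ a : (S : Subgroup G), a = ⟨u, huS⟩ := ⟨_, rfl⟩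
        have e1 : zS * zS = 1 := by rw [hzS']; exact Subtype.ext (hsq z hzo)
        have e2 : uS * uS = 1 := by rw [huS']; exact Subtype.ext (hsq u huo)
        have e3 : uS * zS = zS * uS := by rw [hzS', huS']; exact Subtype.ext (hzcomm u huS)
        have n1 : zS ≠ 1 := by rw [hzS']; exact fun h => hne z hzo (congrArg Subtype.val h)
        have n2 : uS ≠ 1 := by rw [huS']; exact fun h => hne u huo (congrArg Subtype.val h)
        have n3 : zS ≠ uS := by rw [hzS', huS']; exact fun h => hzu (congrArg Subtype.val h)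
        have n4 : zS * uS ≠ 1 := fun h => n3 ((mul_eq_one_iff_eq_inv.1 h).trans
          (inv_eq_of_mul_eq_one_right e2))
        have n5 : zS * uS ≠ zS := fun h => n2 (mul_eq_left.1 h)
        have n6 : zS * uS ≠ uS := fun h => n1 (mul_eq_right.1 h)
        have h4 : ({1, zS, uS, zS * uS} : Set (S : Subgroup G)).ncard = 4 := by
          rw [Set.ncard_insert_of_notMem (by simp [n1.symm, n2.symm, n4.symm]) (Set.toFinite _),
            Set.ncard_eq_three.2 ⟨zS, uS, zS * uS, n3, n5.symm, n6.symm, rfl⟩]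
        have hx : x ∈ ({1, zS, uS, zS * uS} : Set (S : Subgroup G)) := by
          rw [Set.eq_univ_of_univ_subset (s := ({1, zS, uS, zS * uS} : Set (S : Subgroup G)))
            (Set.eq_of_subset_of_ncard_le (Set.subset_univ _) (by rw [Set.ncard_univ, h4, h])
              (Set.toFinite _)).ge]
          trivial
        rw [pow_two]
        rcases hx with rfl | rfl | rfl | rfl
        · exact one_mul 1
        · exact e1
        · exact e2
        · calc zS * uS * (zS * uS) = zS * (uS * zS) * uS := by simp only [mul_assoc]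
            _ = (zS * zS) * (uS * uS) := by rw [e3]; simp only [mul_assoc]
            _ = 1 := by rw [e1, e2, one_mul]
      refine Nat.dvd_antisymm (Monoid.exponent_dvd_of_forall_pow_eq_one hall2) ?_
      have := Monoid.order_dvd_exponent (⟨u, huS⟩ : (S : Subgroup G))
      rwa [← orderOf_coe, huo] at this
    exact IsKleinFour.nonempty_mulEquiv

end Cfsg.Agent.H81.Fix4
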